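import Cfsg.Agent.Spor.J4C2
import Cfsg.Agent.Spor.PX10
import Cfsg.Agent.Spor.J4V.C0

set_option autoImplicit false
set_option maxRecDepth 100000000
set_option Elab.async false

namespace Cfsg.Agent.Spor.J4V

theorem hp : ((A.p : ℕ) : ZMod 2) = 0 := by decide
instance instCharP : CharP (ZMod 2) A.p := ZMod.charP 2

/-- the general linear group -/
noncomputable abbrev Ω : MRep A (ZMod 2) (GL (Fin A.d) (ZMod 2)) := MRep.gl A (ZMod 2) sq hp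
noncomputable abbrev F : ℕ → GL (Fin A.d) (ZMod 2) := Ω.gen TT
theorem presF : Pres 3 0 J4C.RL F :=
  ⟨fun _ h => absurd h (Nat.not_lt_zero _), (MRep.gl_gens TTok).all_one (show AllP (fun w => PA.isW A TT w A.one = true) [[0, 0], [2, 2, 2], [0, 2, 0, 2, 0, 2, 0, 2, 0, 2, 0, 2, 0, 2, 0, 2, 0, 2, 0, 2, 0, 2, 0, 2, 0, 2, 0, 2, 0, 2, 0, 2, 0, 2, 0, 2, 0, 2, 0, 2, 0, 2, 0, 2, 0, 2], [1, 3, 0, 2, 1, 3, 0, 2, 1, 3, 0, 2, 1, 3, 0, 2, 1, 3, 0, 2, 1, 3, 0, 2, 1, 3, 0, 2, 1, 3, 0, 2, 1, 3, 0, 2, 1, 3, 0, 2, 1, 3, 0, 2, 1, 3, 0, 2], [1, 3, 1, 3, 0, 2, 0, 2, 1, 3, 1, 3, 0, 2, 0, 2, 1, 3, 1, 3, 0, 2, 0, 2, 1, 3, 1, 3, 0, 2, 0, 2, 1, 3, 1, 3, 0, 2, 0, 2], [0, 2, 0, 2, 0, 3, 0, 2, 0, 3, 0, 2, 0, 3, 0, 2, 0, 2, 0, 3, 0, 2, 0, 3, 0, 2, 0, 3, 0, 2, 0, 2, 0,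 3, 0, 2, 0, 3, 0, 2, 0, 3, 0, 2, 0, 2, 0, 3, 0, 2, 0, 3, 0, 2, 0, 3], [0, 2, 0, 2, 0, 3, 0, 2, 0, 2, 0, 3, 0, 2, 0, 2, 0, 3, 0, 2, 0, 3, 0, 3, 0, 2, 0, 3, 0, 3, 0, 2, 0, 3, 0, 3], [4, 4], [5, 3, 1, 3, 1, 3, 1, 2, 1, 2, 1, 3, 1, 3, 4, 2, 0, 2, 0, 3, 0, 3, 0, 2, 0, 2, 0, 2], [5, 1, 4, 0], [2, 1, 2, 1, 3, 1, 2, 1, 3, 4, 2, 0, 3, 0, 2, 0, 3, 0, 2, 1, 2, 1, 3, 1, 2, 1, 3, 4, 2, 0, 3, 0, 2, 0, 3, 0, 2, 1, 2, 1, 3, 1, 2, 1, 3, 4, 2, 0, 3, 0, 2, 0, 3, 0], [2, 0, 2, 0, 2, 0, 2, 2, 0, 2, 0, 2, 0, 2, 2, 0, 2, 0, 2, 0, 2, 4, 3, 3, 1, 3, 1, 3, 1, 3, 1, 3, 1, 3, 1, 3, 3, 1, 3, 1, 3, 1, 4, 0, 2, 0, 2, 0, 2, 2, 0, 2, 0, 2, 0, 2, 0, 2, 0, 2, 0, 2, 2, 2, 0, 2, 0, 2, 0, 2, 2, 0, 2, 0, 2, 0, 2, 2, 0, 2, 0, 2, 0, 2, 4, 3, 3, 1, 3, 1, 3, 1, 3, 1, 3, 1, 3, 1,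 3, 3, 1, 3, 1, 3, 1, 4, 0, 2, 0, 2, 0, 2, 2, 0, 2, 0, 2, 0, 2, 0, 2, 0, 2, 0, 2, 2]] from AllP.cons r1 (AllP.cons r2 (AllP.cons r3 (AllP.cons r4 (AllP.cons r5 (AllP.cons r6 (AllP.cons r7 (AllP.cons r8 (AllP.cons r9 (AllP.cons r10 (AllP.cons r11 (AllP.cons r12 (AllP.nil)))))))))))))⟩

/-- the matrix group -/
noncomputable abbrev H : Subgroup (GL (Fin A.d) (ZMod 2)) := gsub 3 F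
noncomputable abbrev h : ℕ → H := lift H F
noncomputable def X : MRep A (ZMod 2) H := Ω.comp H.subtype H.subtype_injective
theorem gens : X.Gens TT (atm 3 h) := (MRep.gl_gens TTok).lift fun _ hj => mem_gsub F hj
theorem pres : Pres 3 0 J4C.RL h := presF.lift
theorem top : gsub 3 h = ⊤ := gsub_lift 3 F

end Cfsg.Agent.Spor.J4V
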